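import Mathlib.Algebra.Homology.HomologicalComplex
import Mathlib.Algebra.Homology.QuasiIso
import Mathlib.Algebra.Homology.ShortComplex.ModuleCat
import Mathlib.Algebra.Category.ModuleCat.EpiMono
import Mathlib.Algebra.Homology.Homotopy
import Mathlib.Algebra.Module.Projective
import Mathlib.LinearAlgebra.FreeModule.Basic
import Mathlib.Tactic

/-!
Elementwise homology of complexes of modules over any ring; retractions of degreewise split
quasi-isomorphisms of ℕ-indexed chain complexes of modules with projective quotients.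
-/

set_option autoImplicit false
universe v u w

open CategoryTheory CategoryTheory.Limits HomologicalComplex

namespace Groth.Agent.FreeQis

section homology

variable {R : Type u} [Ring R] {ι : Type w} {c : ComplexShape ι}
  {K L : HomologicalComplex (ModuleCat.{v} R) c} {r p q : ι}

theorem homologyπ_surjective : Function.Surjective (K.homologyπ p) :=
  (ModuleCat.epi_iff_surjective _).1 inferInstance

theorem iCycles_injective : Function.Injective (K.iCycles p) :=
  (ModuleCat.mono_iff_injective _).1 inferInstance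

theorem exists_cycle (hq : c.next p = q) (x : K.X p) (hx : K.d p q x = 0) :
    ∃ z : K.cycles p, K.iCycles p z = x := by
  have h := ShortComplex.exact_of_f_is_kernel
    (ShortComplex.mk _ _ (K.iCycles_d p q)) (K.cyclesIsKernel p q hq)
  exact (ShortComplex.moduleCat_exact_iff _).1 h x hx

theorem homologyπ_eq_zero_iff (hr : c.prev p = r) (z : K.cycles p) :
    K.homologyπ p z = 0 ↔ K.iCycles p z ∈ LinearMap.range (K.d r p).hom := by
  constructor
  · intro hz
    have h := ShortComplex.exact_of_g_is_cokernel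
      (ShortComplex.mk _ _ (K.toCycles_comp_homologyπ r p)) (K.homologyIsCokernel r p hr)
    obtain ⟨v, rfl⟩ := (ShortComplex.moduleCat_exact_iff _).1 h z hz
    exact ⟨v, congr($(K.toCycles_i r p) v).symm⟩
  · rintro ⟨v, hv⟩
    obtain rfl : K.toCycles r p v = z :=
      iCycles_injective (congr($(K.toCycles_i r p) v).trans hv)
    exact congr($(K.toCycles_comp_homologyπ r p) v)

theorem homologyMap_π (φ : K ⟶ L) (z : K.cycles p) :
    ∃ z' : L.cycles p, homologyMap φ p (K.homologyπ p z) = L.homologyπ p z' ∧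
      L.iCycles p z' = φ.f p (K.iCycles p z) :=
  ⟨cyclesMap φ p z, congr($(homologyπ_naturality φ p) z), congr($(cyclesMap_i φ p) z)⟩

theorem epi_homologyMap_iff (hr : c.prev p = r) (hq : c.next p = q) (φ : K ⟶ L) :
    Epi (homologyMap φ p) ↔ ∀ x : L.X p, L.d p q x = 0 →
      ∃ y : K.X p, K.d p q y = 0 ∧ φ.f p y - x ∈ LinearMap.range (L.d r p).hom := by
  rw [ModuleCat.epi_iff_surjective]
  constructor
  · intro h x hx
    obtain ⟨z, rfl⟩ := exists_cycle hq x hx
    obtain ⟨a, ha⟩ := h (L.homologyπ p z)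
    obtain ⟨w, rfl⟩ := homologyπ_surjective a
    obtain ⟨z', h1, h2⟩ := homologyMap_π φ w
    refine ⟨K.iCycles p w, congr($(K.iCycles_d p q) w), ?_⟩
    rw [← h2, ← map_sub, ← homologyπ_eq_zero_iff hr, map_sub, ← h1, ha, sub_self]
  · intro h a
    obtain ⟨z, rfl⟩ := homologyπ_surjective a
    obtain ⟨y, hy, hyz⟩ := h (L.iCycles p z) (congr($(L.iCycles_d p q) z))
    obtain ⟨w, rfl⟩ := exists_cycle hq y hy
    obtain ⟨z', h1, h2⟩ := homologyMap_π φ w
    refine ⟨K.homologyπ p w, ?_⟩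
    rw [← h2, ← map_sub, ← homologyπ_eq_zero_iff hr, map_sub, sub_eq_zero] at hyz
    rw [h1, hyz]

theorem mono_homologyMap_iff (hr : c.prev p = r) (hq : c.next p = q) (φ : K ⟶ L) :
    Mono (homologyMap φ p) ↔ ∀ y : K.X p, K.d p q y = 0 →
      φ.f p y ∈ LinearMap.range (L.d r p).hom → y ∈ LinearMap.range (K.d r p).hom := by
  rw [ModuleCat.mono_iff_injective, injective_iff_map_eq_zero]
  constructor
  · intro h y hy hmem
    obtain ⟨w, rfl⟩ := exists_cycle hq y hy
    obtain ⟨z', h1, h2⟩ := homologyMap_π φ w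
    rw [← homologyπ_eq_zero_iff hr]
    refine h _ (h1.trans ?_)
    rw [homologyπ_eq_zero_iff hr, h2]
    exact hmem
  · intro h a ha
    obtain ⟨w, rfl⟩ := homologyπ_surjective a
    obtain ⟨z', h1, h2⟩ := homologyMap_π φ w
    rw [homologyπ_eq_zero_iff hr]
    refine h _ (congr($(K.iCycles_d p q) w)) ?_
    rw [← h2, ← homologyπ_eq_zero_iff hr, ← h1, ha]

theorem d_d_apply (r p q : ι) (x : K.X r) : K.d p q (K.d r p x) = 0 :=
  congr($(K.d_comp_d r p q) x)

theorem comm_apply (φ : K ⟶ L) (p q : ι) (x : K.X p) : L.d p q (φ.f p x) = φ.f q (K.d p q x) :=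
  congr($(φ.comm p q) x)

end homology

section contraction

variable {R : Type u} [Ring R] {A' A : ChainComplex (ModuleCat.{v} R) ℕ} (f : A' ⟶ A)
  (hf : ∀ q, Function.Injective (f.f q).hom)
  (hq : ∀ q, Module.Projective R ((A.X q) ⧸ LinearMap.range (f.f q).hom)) [QuasiIso f]

/-- Admissible component of the contraction in degree `n`. -/
def Good (n : ℕ) (h : A.X n →ₗ[R] A.X (n + 1)) : Prop :=
  h ∘ₗ (f.f n).hom = 0 ∧
    ∀ b : A.X n, A.d n (n - 1) b = 0 → b - A.d (n + 1) n (h b) ∈ LinearMap.range (f.f n).hom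

include hq in
lemma exists_lift (n : ℕ) (u : A.X n →ₗ[R] A.X n)
    (hu : ∀ a' : A'.X n, u (f.f n a') ∈ LinearMap.range (f.f n).hom)
    (hu' : ∀ a, u a ∈ LinearMap.range (f.f n).hom ⊔ LinearMap.range (A.d (n + 1) n).hom) :
    ∃ h : A.X n →ₗ[R] A.X (n + 1), h ∘ₗ (f.f n).hom = 0 ∧
      ∀ a, u a - A.d (n + 1) n (h a) ∈ LinearMap.range (f.f n).hom := by
  haveI := hq n
  let N := LinearMap.range (f.f n).hom
  let ub : (A.X n ⧸ N) →ₗ[R] (A.X n ⧸ N) := N.liftQ (N.mkQ ∘ₗ u) (by
    rintro _ ⟨a', rfl⟩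
    simp only [LinearMap.mem_ker, LinearMap.comp_apply, Submodule.mkQ_apply, Submodule.Quotient.mk_eq_zero]
    exact hu a')
  have hub : ∀ x, ub x ∈ LinearMap.range (N.mkQ ∘ₗ (A.d (n + 1) n).hom) := by
    intro x
    obtain ⟨a, rfl⟩ := Submodule.mkQ_surjective N x
    obtain ⟨y, hy, z, ⟨b, rfl⟩, hyz⟩ := Submodule.mem_sup.mp (hu' a)
    refine ⟨b, ?_⟩
    show N.mkQ _ = N.mkQ (u a)
    rw [← hyz, map_add, Submodule.mkQ_apply N y, (Submodule.Quotient.mk_eq_zero N).mpr hy, zero_add]
  obtain ⟨g, hg⟩ := Module.projective_lifting_property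
    (N.mkQ ∘ₗ (A.d (n + 1) n).hom).rangeRestrict (ub.codRestrict _ hub) (LinearMap.surjective_rangeRestrict _)
  refine ⟨g ∘ₗ N.mkQ, ?_, fun a => ?_⟩
  · ext a'
    simp only [LinearMap.comp_apply, Submodule.mkQ_apply, LinearMap.zero_apply]
    rw [(Submodule.Quotient.mk_eq_zero N).mpr (LinearMap.mem_range_self _ a'), map_zero]
  · have h1 := congrArg Subtype.val (LinearMap.congr_fun hg (N.mkQ a))
    rw [← Submodule.Quotient.eq]
    exact h1.symm

include hf hq

lemma exists_good_zero : ∃ h, Good f 0 h ∧ ∀ a, a - A.d 1 0 (h a) ∈ LinearMap.range (f.f 0).hom := by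
  obtain ⟨h, h1, h2⟩ := exists_lift f hq 0 LinearMap.id (fun a' => ⟨a', rfl⟩) (fun a => by
    have he : Epi (homologyMap f 0) := inferInstance
    rw [epi_homologyMap_iff (r := 1) (q := 0) (by simp) (by simp) f] at he
    obtain ⟨y, -, ⟨w, hw⟩⟩ := he a (by simp)
    rw [Submodule.mem_sup]
    exact ⟨f.f 0 y, ⟨y, rfl⟩, -A.d 1 0 w, ⟨-w, map_neg _ _⟩, by rw [hw]; simp⟩)
  exact ⟨h, ⟨h1, fun b _ => h2 b⟩, h2⟩

lemma exists_good_succ (n : ℕ) (h₀ : A.X n →ₗ[R] A.X (n + 1)) (hh : Good f n h₀) :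
    ∃ h, Good f (n + 1) h ∧ ∀ a, a - h₀ (A.d (n + 1) n a) - A.d (n + 2) (n + 1) (h a)
      ∈ LinearMap.range (f.f (n + 1)).hom := by
  let u : A.X (n + 1) →ₗ[R] A.X (n + 1) := LinearMap.id - h₀ ∘ₗ (A.d (n + 1) n).hom
  have hh0 : ∀ z, h₀ (f.f n z) = 0 := fun z => LinearMap.congr_fun hh.1 z
  obtain ⟨h, h1, h2⟩ := exists_lift f hq (n + 1) u (fun a' => ⟨a', by
      simp only [u, LinearMap.sub_apply, LinearMap.id_apply, LinearMap.comp_apply]
      rw [comm_apply, hh0, sub_zero]⟩)
    (fun a => by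
      obtain ⟨x0, hx0⟩ : A.d (n + 1) n (u a) ∈ LinearMap.range (f.f n).hom := by
        simp only [u, LinearMap.sub_apply, LinearMap.id_apply, LinearMap.comp_apply, map_sub]
        refine hh.2 _ ?_
        exact d_d_apply _ _ _ _
      have hcyc : A'.d n (n - 1) x0 = 0 := by
        apply hf
        rw [map_zero, ← comm_apply, hx0]
        exact d_d_apply _ _ _ _
      have hm : Mono (homologyMap f n) := inferInstance
      rw [mono_homologyMap_iff (r := n + 1) (q := n - 1) (by simp) (by cases n <;> simp) f] at hm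
      obtain ⟨x1, hx1⟩ := hm x0 hcyc ⟨u a, hx0.symm⟩
      have he : Epi (homologyMap f (n + 1)) := inferInstance
      rw [epi_homologyMap_iff (r := n + 2) (q := n) (by simp) (by simp) f] at he
      obtain ⟨y, -, ⟨w, hw⟩⟩ := he (u a - f.f (n + 1) x1) (by
        rw [map_sub, comm_apply, hx1, hx0, sub_self])
      rw [Submodule.mem_sup]
      exact ⟨f.f (n + 1) (x1 + y), ⟨x1 + y, rfl⟩, -A.d (n + 2) (n + 1) w, ⟨-w, map_neg _ _⟩, by
        rw [hw, map_add]; abel⟩)
  refine ⟨h, ⟨h1, fun b hb => ?_⟩, h2⟩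
  have := h2 b
  simp only [u, LinearMap.sub_apply, LinearMap.id_apply, LinearMap.comp_apply] at this
  rwa [show A.d (n + 1) n b = 0 from hb, map_zero, sub_zero] at this

/-- A contraction of the quotient: `h` vanishes on `A'` and `1 - (dh + hd)` takes values in `A'`. -/
theorem exists_contraction : ∃ h : ∀ n, A.X n →ₗ[R] A.X (n + 1),
    (∀ n (a' : A'.X n), h n (f.f n a') = 0) ∧
    (∀ a, a - A.d 1 0 (h 0 a) ∈ LinearMap.range (f.f 0).hom) ∧
    ∀ n a, a - h n (A.d (n + 1) n a) - A.d (n + 2) (n + 1) (h (n + 1) a)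
      ∈ LinearMap.range (f.f (n + 1)).hom := by
  let S : ∀ n, { h // Good f n h } := fun n => Nat.rec
    ⟨(exists_good_zero f hf hq).choose, (exists_good_zero f hf hq).choose_spec.1⟩
    (fun m s => ⟨(exists_good_succ f hf hq m s.1 s.2).choose,
      (exists_good_succ f hf hq m s.1 s.2).choose_spec.1⟩) n
  exact ⟨fun n => (S n).1, fun n a' => LinearMap.congr_fun (S n).2.1 a',
    (exists_good_zero f hf hq).choose_spec.2,
    fun n a => (exists_good_succ f hf hq n (S n).1 (S n).2).choose_spec.2 a⟩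

/-- A chain retraction `g` with `f ≫ g = 𝟙` and a homotopy from `𝟙` to `g ≫ f` vanishing on `A'`. -/
theorem exists_retraction : ∃ (g : A ⟶ A') (H : Homotopy (𝟙 A) (g ≫ f)),
    f ≫ g = 𝟙 A' ∧ ∀ i j, f.f i ≫ H.hom i j = 0 := by
  obtain ⟨h, hhf, h0, hs⟩ := exists_contraction f hf hq
  let u : ∀ n, A.X n →ₗ[R] A.X n := fun n => match n with
    | 0 => LinearMap.id - (A.d 1 0).hom ∘ₗ h 0
    | m + 1 => LinearMap.id - h m ∘ₗ (A.d (m + 1) m).hom - (A.d (m + 2) (m + 1)).hom ∘ₗ h (m + 1)
  have hu : ∀ n a, u n a ∈ LinearMap.range (f.f n).hom := fun n a => by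
    cases n with
    | zero => exact h0 a
    | succ m => exact hs m a
  let gl : ∀ n, A.X n →ₗ[R] A'.X n := fun n =>
    (LinearEquiv.ofInjective (f.f n).hom (hf n)).symm.toLinearMap ∘ₗ (u n).codRestrict _ (hu n)
  have hgl : ∀ n a, f.f n (gl n a) = u n a := fun n a =>
    congrArg Subtype.val ((LinearEquiv.ofInjective (f.f n).hom (hf n)).apply_symm_apply ⟨u n a, hu n a⟩)
  have hufix : ∀ n a', u n (f.f n a') = f.f n a' := fun n a' => by
    cases n with
    | zero => simp [u, hhf]
    | succ m =>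
      simp only [u, LinearMap.sub_apply, LinearMap.id_apply, LinearMap.comp_apply]
      rw [comm_apply, hhf, hhf, map_zero, sub_zero, sub_zero]
  let g : A ⟶ A' :=
    { f := fun n => ModuleCat.ofHom (gl n)
      comm' := fun i j hij => by
        obtain rfl : j + 1 = i := hij
        ext a
        apply hf
        show f.f j (A'.d (j + 1) j (gl (j + 1) a)) = f.f j (gl j (A.d (j + 1) j a))
        rw [← comm_apply, hgl, hgl]
        cases j with
        | zero => simp [u, d_d_apply]
        | succ m => simp [u, d_d_apply] }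
  let hom : ∀ i j, A.X i ⟶ A.X j := fun i j =>
    if hij : i + 1 = j then ModuleCat.ofHom (h i) ≫ (A.XIsoOfEq hij).hom else 0
  have hom_eq : ∀ i, hom i (i + 1) = ModuleCat.ofHom (h i) := fun i => by simp [hom]
  have hg : ∀ n a, f.f n (g.f n a) = u n a := hgl
  let H : Homotopy (𝟙 A) (g ≫ f) :=
    { hom := hom
      zero := fun i j hij => dif_neg hij
      comm := fun n => by
        ext a
        cases n with
        | zero =>
          rw [dNext_eq_zero _ _ (by simp), prevD_eq _ (show (ComplexShape.down ℕ).Rel 1 0 from rfl), hom_eq]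
          show a = 0 + A.d 1 0 (h 0 a) + f.f 0 (g.f 0 a)
          rw [hg]
          simp [u]
        | succ m =>
          rw [dNext_eq _ (show (ComplexShape.down ℕ).Rel (m + 1) m from rfl),
            prevD_eq _ (show (ComplexShape.down ℕ).Rel (m + 2) (m + 1) from rfl), hom_eq, hom_eq]
          show a = h m (A.d (m + 1) m a) + A.d (m + 2) (m + 1) (h (m + 1) a) + f.f (m + 1) (g.f (m + 1) a)
          rw [hg]
          simp only [u, LinearMap.sub_apply, LinearMap.id_apply, LinearMap.comp_apply]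
          abel }
  refine ⟨g, H, ?_, fun i j => ?_⟩
  · ext n a
    apply hf
    show f.f n (g.f n (f.f n a)) = f.f n a
    rw [hg, hufix]
  · show f.f i ≫ hom i j = 0
    by_cases hij : i + 1 = j
    · subst hij
      rw [hom_eq]
      ext a
      exact hhf i a
    · simp [hom, dif_neg hij]

omit hf hq

/-- Two retractions are homotopic relative to `A'`. -/
theorem exists_homotopy (hf : ∀ q, Function.Injective (f.f q).hom)
    (hq : ∀ q, Module.Projective R ((A.X q) ⧸ LinearMap.range (f.f q).hom))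
    (g₁ g₂ : A ⟶ A') (h₁ : f ≫ g₁ = 𝟙 A') (h₂ : f ≫ g₂ = 𝟙 A') :
    ∃ H : Homotopy g₁ g₂, ∀ i j, f.f i ≫ H.hom i j = 0 := by
  obtain ⟨g, H, -, hH⟩ := exists_retraction f hf hq
  refine ⟨Homotopy.equivSubZero.symm
    (((H.compRight (g₁ - g₂)).trans (Homotopy.ofEq (by simp [h₁, h₂]))).trans (Homotopy.refl 0) |>
      fun K => (Homotopy.ofEq (Category.id_comp (g₁ - g₂)).symm).trans K), fun i j => ?_⟩
  simp [Homotopy.equivSubZero, Homotopy.trans, Homotopy.compRight, Homotopy.ofEq, reassoc_of% (hH i j)]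

end contraction

end Groth.Agent.FreeQis
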