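import Mathlib.Algebra.Module.Projective
import Mathlib.LinearAlgebra.FreeModule.Basic
import Mathlib.Algebra.Module.Equiv.Basic
import Mathlib.LinearAlgebra.Basis.Basic

/-! ℤ-module structures are unique: transporting freeness/projectivity between instances. -/

set_option autoImplicit false
universe v

namespace Groth.Agent.FreeQis

theorem free_congr_int {Q : Type v} [AddCommGroup Q] (m m' : Module ℤ Q)
    (h : @Module.Free ℤ Q _ _ m) : @Module.Free ℤ Q _ _ m' := by
  obtain rfl := Subsingleton.elim m m'
  exact h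

theorem projective_of_free_int {Q : Type v} [AddCommGroup Q] (m : Module ℤ Q)
    (h : @Module.Free ℤ Q _ _ (AddCommGroup.toIntModule Q)) : @Module.Projective ℤ _ Q _ m :=
  @Module.Projective.of_free ℤ _ Q _ m (free_congr_int _ m h)

theorem free_of_addEquiv {Q Q' : Type v} [AddCommGroup Q] [AddCommGroup Q'] [Module.Free ℤ Q']
    (e : Q' ≃+ Q) : Module.Free ℤ Q :=
  Module.Free.of_equiv e.toIntLinearEquiv

theorem projective_of_addEquiv_int {Q Q' : Type v} [AddCommGroup Q] [AddCommGroup Q'] (m : Module ℤ Q)
    (m' : Module ℤ Q') (h : @Module.Free ℤ Q' _ _ m') (e : Q' ≃+ Q) : @Module.Projective ℤ _ Q _ m :=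
  projective_of_free_int m (@free_of_addEquiv Q Q' _ _ (free_congr_int m' _ h) e)

end Groth.Agent.FreeQis
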