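import Groth.Agent.FreeQis.Basic
import Mathlib.Algebra.Homology.Monoidal
import Mathlib.Algebra.Category.ModuleCat.Monoidal.Basic
import Mathlib.Algebra.Category.ModuleCat.Abelian
import Mathlib.Algebra.Category.ModuleCat.Colimits
import Mathlib.Algebra.Homology.Single
import Mathlib.LinearAlgebra.TensorProduct.RightExactness
import Mathlib.RingTheory.Flat.Basic

/-!
Elementwise description of the low degrees of the tensor product of ℕ-indexed chain complexes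
of modules.
-/

set_option autoImplicit false
universe v

open CategoryTheory MonoidalCategory CategoryTheory.Limits HomologicalComplex

namespace Groth.Agent.FreeQis

variable {R : Type v} [CommRing R] (C P : ChainComplex (ModuleCat.{v} R) ℕ)

/-- summand inclusion -/
noncomputable abbrev tι (i j n : ℕ) (h : i + j = n) : C.X i ⊗ P.X j ⟶ (C ⊗ P).X n :=
  ιTensorObj C P i j n h

/-- Every element of degree 1 is a sum of the two components. -/
noncomputable def p01 : (C ⊗ P).X 1 ⟶ C.X 0 ⊗ P.X 1 :=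
  mapBifunctorDesc fun i j h =>
    if hi : i = 0 ∧ j = 1 then eqToHom (by obtain ⟨rfl, rfl⟩ := hi; rfl) else 0

noncomputable def p10 : (C ⊗ P).X 1 ⟶ C.X 1 ⊗ P.X 0 :=
  mapBifunctorDesc fun i j h =>
    if hi : i = 1 ∧ j = 0 then eqToHom (by obtain ⟨rfl, rfl⟩ := hi; rfl) else 0

theorem split_one : 𝟙 ((C ⊗ P).X 1) =
    p01 C P ≫ tι C P 0 1 1 rfl + p10 C P ≫ tι C P 1 0 1 rfl := by
  refine mapBifunctor.hom_ext fun i j (h : i + j = 1) => ?_
  rcases (show (i = 0 ∧ j = 1) ∨ (i = 1 ∧ j = 0) by omega) with ⟨rfl, rfl⟩ | ⟨rfl, rfl⟩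
  · simp [p01, p10]; exact Category.comp_id _
  · simp [p01, p10]; exact Category.comp_id _

theorem ι10_p10 : tι C P 1 0 1 rfl ≫ p10 C P = 𝟙 _ := by simp [p10]

theorem ι01_p10 : tι C P 0 1 1 rfl ≫ p10 C P = 0 := by simp [p10]

theorem exists_decomp (x : (C ⊗ P).X 1) :
    ∃ a w, x = tι C P 0 1 1 rfl a + tι C P 1 0 1 rfl w :=
  ⟨p01 C P x, p10 C P x, congr($(split_one C P) x)⟩

theorem ι10_injective : Function.Injective (tι C P 1 0 1 rfl) :=
  Function.LeftInverse.injective (g := p10 C P) fun x => congr($(ι10_p10 C P) x)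

/-- The degree `0` component. -/
noncomputable def p00 : (C ⊗ P).X 0 ⟶ C.X 0 ⊗ P.X 0 :=
  mapBifunctorDesc fun i j h => eqToHom (by
    obtain ⟨rfl, rfl⟩ : i = 0 ∧ j = 0 := by
      change i + j = 0 at h; omega
    rfl)

theorem ι00_injective : Function.Injective (tι C P 0 0 0 rfl) :=
  Function.LeftInverse.injective (g := p00 C P) fun x =>
    congr($(show tι C P 0 0 0 rfl ≫ p00 C P = 𝟙 _ by simp [p00]) x)

theorem d_ι_left (j : ℕ) :
    tι C P 0 (j + 1) (j + 1) (zero_add _) ≫ (C ⊗ P).d (j + 1) j =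
      (C.X 0 ◁ P.d (j + 1) j) ≫ tι C P 0 j j (zero_add _) := by
  rw [show (C ⊗ P).d (j + 1) j = _ from mapBifunctor.d_eq _ _ _ _ _ _, Preadditive.comp_add,
    mapBifunctor.ι_D₁, mapBifunctor.ι_D₂, mapBifunctor.d₁_eq_zero _ _ _ _ _ _ _ (by simp),
    mapBifunctor.d₂_eq _ _ _ _ _ (show (ComplexShape.down ℕ).Rel (j + 1) j by simp) _ (zero_add j),
    zero_add]
  simp

theorem d_ι_right (i : ℕ) :
    tι C P (i + 1) 0 (i + 1) (add_zero _) ≫ (C ⊗ P).d (i + 1) i =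
      (C.d (i + 1) i ▷ P.X 0) ≫ tι C P i 0 i (add_zero _) := by
  rw [show (C ⊗ P).d (i + 1) i = _ from mapBifunctor.d_eq _ _ _ _ _ _, Preadditive.comp_add,
    mapBifunctor.ι_D₁, mapBifunctor.ι_D₂, mapBifunctor.d₂_eq_zero _ _ _ _ _ _ _ (by simp),
    mapBifunctor.d₁_eq _ _ _ _ (show (ComplexShape.down ℕ).Rel (i + 1) i by simp) _ _ (add_zero i),
    add_zero]
  simp

theorem d_ι11 :
    tι C P 1 1 2 rfl ≫ (C ⊗ P).d 2 1 =
      (C.d 1 0 ▷ P.X 1) ≫ tι C P 0 1 1 rfl - (C.X 1 ◁ P.d 1 0) ≫ tι C P 1 0 1 rfl := by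
  rw [show (C ⊗ P).d 2 1 = _ from mapBifunctor.d_eq _ _ _ _ _ _, Preadditive.comp_add,
    mapBifunctor.ι_D₁, mapBifunctor.ι_D₂,
    mapBifunctor.d₁_eq _ _ _ _ (show (ComplexShape.down ℕ).Rel 1 0 by simp) _ _ (zero_add 1),
    mapBifunctor.d₂_eq _ _ _ _ _ (show (ComplexShape.down ℕ).Rel 1 0 by simp) _ (add_zero 1)]
  simp [sub_eq_add_neg]

theorem ι_map {Q : ChainComplex (ModuleCat.{v} R) ℕ} (φ : P ⟶ Q) (i j n : ℕ) (h : i + j = n) :
    tι C P i j n h ≫ (C ◁ φ).f n = (C.X i ◁ φ.f j) ≫ tι C Q i j n h := by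
  show ιTensorObj C P i j n h ≫ (HomologicalComplex.tensorHom (𝟙 C) φ).f n = _
  simp

end Groth.Agent.FreeQis
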